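import Groth.Agent.EtDual.K734.Root
import Groth.Agent.Sga4h.KumExt250
import Groth.Agent.Sga4h.TameFieldAlg
import Groth.Agent.Etrest.HPush
import Groth.Agent.Etcore.LCPull
import Groth.Agent.CurvesC.RegNormal
import Groth.Agent.S0564
import Groth.Agent.Sga4h.DivEq
import Groth.Agent.S3104
import Groth.Prelude.Def_FEt
import Mathlib.AlgebraicGeometry.Morphisms.Finite
import Mathlib.AlgebraicGeometry.FunctionField

/-!
# The Kummer covering of `Spec A[1/t]` given by an `l`-th root of a regular parameter `t`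

Notation: `B = A[X]/(X^l - t)`, `s` the root; `V = Spec A[1/t]`, `V' = Spec B[1/s]`, `U`, `U'` the punctured
spectra of `A` and `B`.
-/

set_option autoImplicit false
universe u
open CategoryTheory CategoryTheory.Limits AlgebraicGeometry Opposite IsLocalRing

namespace K734.Cov

open Groth.Agent Groth.Agent.Sga4h.KumCov250 Groth.Agent.Sga4h.KumExt250 Polynomial

/-- ring level criterion for a Kummer covering of affine schemes -/
theorem isKum_of_ring {R S : Type u} [CommRing R] [CommRing S] (φ : R →+* S) (n : ℕ) (f : R) (x : S)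
    (hx : x ^ n = φ f)
    (hlift : ∀ (T : Type u) [CommRing T] (ψ : R →+* T) (y : T), y ^ n = ψ f → ∃ k : S →+* T, k.comp φ = ψ ∧ k x = y)
    (huniq : ∀ (T : Type u) [CommRing T] (k k' : S →+* T), k.comp φ = k'.comp φ → k x = k' x → k = k') :
    IsKum (Spec.map (CommRingCat.ofHom φ)) n ((Scheme.ΓSpecIso (CommRingCat.of R)).inv.hom f)
      ((Scheme.ΓSpecIso (CommRingCat.of S)).inv.hom x) where
  pow_eq := by
    rw [← map_pow, hx]
    exact congrArg (fun k => k.hom f) (Scheme.ΓSpecIso_inv_naturality (CommRingCat.ofHom φ))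
  exists_lift {Z} h y hy := by
    let ψ : R →+* Γ(Z, ⊤) := ((Scheme.ΓSpecIso (CommRingCat.of R)).inv ≫ h.appTop).hom
    obtain ⟨k, hk1, hk2⟩ := hlift Γ(Z, ⊤) ψ y hy
    refine ⟨Z.toSpecΓ ≫ Spec.map (CommRingCat.ofHom k), ?_, ?_⟩
    · rw [Category.assoc, ← Spec.map_comp, ← CommRingCat.ofHom_comp, hk1]
      have h1 : CommRingCat.ofHom ψ = (Scheme.ΓSpecIso (CommRingCat.of R)).inv ≫ h.appTop := rfl
      rw [h1, Spec.map_comp, ← Scheme.toSpecΓ_naturality_assoc, toSpecΓ_SpecMap_ΓSpecIso_inv, Category.comp_id]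
    · have h3 : (Scheme.ΓSpecIso (CommRingCat.of S)).inv ≫ (Z.toSpecΓ ≫ Spec.map (CommRingCat.ofHom k)).appTop =
          CommRingCat.ofHom k := by
        rw [Scheme.Hom.comp_appTop, ← Scheme.ΓSpecIso_inv_naturality_assoc, Scheme.toSpecΓ_appTop,
          Iso.inv_hom_id, Category.comp_id]
      refine (congrArg (fun k => k.hom x) h3).trans hk2
  uniq {Z} k k' h hx' := by
    apply ext_of_isAffine
    rw [← cancel_epi (Scheme.ΓSpecIso (CommRingCat.of S)).inv]
    apply CommRingCat.hom_ext
    refine huniq _ _ _ ?_ hx'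
    have h1 : ∀ k : Z ⟶ Spec (CommRingCat.of S), CommRingCat.ofHom φ ≫ (Scheme.ΓSpecIso (CommRingCat.of S)).inv ≫
        k.appTop = (Scheme.ΓSpecIso (CommRingCat.of R)).inv ≫ (k ≫ Spec.map (CommRingCat.ofHom φ)).appTop := by
      intro k
      rw [Scheme.Hom.comp_appTop, Scheme.ΓSpecIso_inv_naturality_assoc]
    exact congrArg CommRingCat.Hom.hom ((h1 k).trans ((congrArg (fun g => _ ≫ Scheme.Hom.appTop g) h).trans
      (h1 k').symm))

section Defs

open K734.Root

variable {A : Type u} [CommRing A] (t : A) (l : ℕ)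

/-- `Spec A[1/t]` -/
noncomputable abbrev V : Scheme.{u} := Spec (CommRingCat.of (Localization.Away t))

/-- `Spec B[1/s]` -/
noncomputable abbrev V' : Scheme.{u} := Spec (CommRingCat.of (Localization.Away (s t l)))

theorem isUnit_map : IsUnit (((algebraMap (B t l) (Localization.Away (s t l))).comp (algebraMap A (B t l))) t) := by
  rw [RingHom.comp_apply, ← K734.Root.root_pow t l, map_pow]
  exact IsLocalization.Away.algebraMap_pow_isUnit (s t l) l

/-- `A[1/t] → B[1/s]` -/
noncomputable def locMap : Localization.Away t →+* Localization.Away (s t l) :=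
  IsLocalization.Away.lift t (isUnit_map t l)

theorem locMap_comp : (locMap t l).comp (algebraMap A (Localization.Away t)) =
    (algebraMap (B t l) (Localization.Away (s t l))).comp (algebraMap A (B t l)) :=
  IsLocalization.Away.lift_comp t (isUnit_map t l)

theorem locMap_algebraMap (a : A) : locMap t l (algebraMap A (Localization.Away t) a) =
    algebraMap (B t l) (Localization.Away (s t l)) (algebraMap A (B t l) a) :=
  RingHom.congr_fun (locMap_comp t l) a

/-- the covering -/
noncomputable def πV : V' t l ⟶ V t := Spec.map (CommRingCat.ofHom (locMap t l))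

/-- `t` as a function on `V` -/
noncomputable def f : Γ(V t, ⊤) :=
  (Scheme.ΓSpecIso (CommRingCat.of (Localization.Away t))).inv.hom (algebraMap A (Localization.Away t) t)

/-- an element of `A` as a function on `V` -/
noncomputable def ζV (z : A) : Γ(V t, ⊤) :=
  (Scheme.ΓSpecIso (CommRingCat.of (Localization.Away t))).inv.hom (algebraMap A (Localization.Away t) z)

/-- `s` as a function on `V'` -/
noncomputable def x : Γ(V' t l, ⊤) :=
  (Scheme.ΓSpecIso (CommRingCat.of (Localization.Away (s t l)))).inv.hom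
    (algebraMap (B t l) (Localization.Away (s t l)) (s t l))

theorem isKum (hl : 0 < l) : IsKum (πV t l) l (f t) (x t l) := by
  refine isKum_of_ring (locMap t l) l (algebraMap A (Localization.Away t) t)
    (algebraMap (B t l) (Localization.Away (s t l)) (s t l)) ?_ ?_ ?_
  · rw [locMap_algebraMap, ← map_pow, K734.Root.root_pow]
  · intro T _ ψ y hy
    have h0 : (X ^ l - C t : A[X]).eval₂ (ψ.comp (algebraMap A (Localization.Away t))) y = 0 := by
      rw [eval₂_sub, eval₂_X_pow, eval₂_C, hy, RingHom.comp_apply, sub_self]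
    let g : B t l →+* T := AdjoinRoot.lift (ψ.comp (algebraMap A (Localization.Away t))) y h0
    have hg : g (s t l) = y := AdjoinRoot.lift_root h0
    have hu : IsUnit (g (s t l)) := by
      rw [hg, ← isUnit_pow_iff hl.ne', hy]
      exact (IsLocalization.Away.algebraMap_isUnit t).map ψ
    refine ⟨IsLocalization.Away.lift (s t l) hu, ?_, ?_⟩
    · apply IsLocalization.ringHom_ext (Submonoid.powers t)
      ext a
      rw [RingHom.comp_apply, RingHom.comp_apply, locMap_algebraMap, IsLocalization.Away.lift_eq]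
      exact AdjoinRoot.lift_of h0
    · rw [IsLocalization.Away.lift_eq, hg]
  · intro T _ k k' h hx
    apply IsLocalization.ringHom_ext (Submonoid.powers (s t l))
    apply AdjoinRoot.ringHom_ext
    · ext a
      have h1 := RingHom.congr_fun h (algebraMap A (Localization.Away t) a)
      rw [RingHom.comp_apply, RingHom.comp_apply, locMap_algebraMap] at h1
      exact h1
    · exact hx

theorem etale_locMap (hl : 0 < l) (hlA : IsUnit (l : A)) : (locMap t l).Etale := by
  let _ : Algebra (Localization.Away t) (Localization.Away (s t l)) := (locMap t l).toAlgebra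
  have h1 : IsScalarTower A (Localization.Away t) (Localization.Away (s t l)) :=
    IsScalarTower.of_algebraMap_eq fun a => (locMap_algebraMap t l a).symm
  exact etale' t l hl (Localization.Away (s t l)) (Localization.Away t) hlA

theorem finite_locMap (hl : 0 < l) : (locMap t l).Finite := by
  let _ : Algebra (Localization.Away t) (Localization.Away (s t l)) := (locMap t l).toAlgebra
  have h1 : IsScalarTower A (Localization.Away t) (Localization.Away (s t l)) :=
    IsScalarTower.of_algebraMap_eq fun a => (locMap_algebraMap t l a).symm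
  exact finite' t l hl (Localization.Away (s t l)) (Localization.Away t)

theorem etale_πV (hl : 0 < l) (hlA : IsUnit (l : A)) : Etale (πV t l) := by
  rw [πV, HasRingHomProperty.Spec_iff (P := @Etale)]
  exact etale_locMap t l hl hlA

theorem isFinite_πV (hl : 0 < l) : IsFinite (πV t l) := by
  rw [πV, IsFinite.SpecMap_iff]
  exact finite_locMap t l hl

theorem exists_setup (hl : 0 < l) (hlA : IsUnit (l : A)) (z : A) (hz : (cyclotomic l A).IsRoot z) :
    ∃ σ : V' t l ⟶ V' t l, Setup (πV t l) σ l (f t) (ζV t z) (x t l) := by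
  have hK := isKum t l hl
  have hζ : (cyclotomic l Γ(V t, ⊤)).IsRoot (ζV t z) :=
    Sga4h.KumIdx250.isRoot_map _ (Sga4h.KumIdx250.isRoot_map (algebraMap A (Localization.Away t)) hz)
  have h1 : (ζV t z) ^ l = 1 := Sga4h.KumIdx250.isRoot_pow hζ
  obtain ⟨σ, hσ, hσ'⟩ := hK.exists_lift (πV t l) ((πV t l).appTop.hom (ζV t z) * x t l) (by
    rw [mul_pow, ← map_pow, h1, map_one, one_mul, hK.pow_eq])
  refine ⟨σ, etale_πV t l hl hlA, hσ, hK, ?_, ?_, hζ, hσ'⟩
  · exact (IsLocalization.Away.algebraMap_isUnit t).map (Scheme.ΓSpecIso (CommRingCat.of (Localization.Away t))).inv.hom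
  · exact isUnit_natCast_map ((Scheme.ΓSpecIso (CommRingCat.of (Localization.Away t))).inv.hom.comp
      (algebraMap A (Localization.Away t))) hlA

end Defs

section Punct

/-- a nonempty spectrum of a domain is connected -/
theorem connectedSpace_away {R : Type u} [CommRing R] [IsDomain R] (f : R) (hf : f ≠ 0) :
    ConnectedSpace (Spec (CommRingCat.of (Localization.Away f)) : Scheme.{u}) := by
  have h1 : IsDomain (Localization.Away f) :=
    IsLocalization.isDomain_localization (powers_le_nonZeroDivisors_of_noZeroDivisors hf)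
  exact inferInstanceAs (ConnectedSpace (PrimeSpectrum (Localization.Away f)))

variable {R : Type u} [CommRing R] [IsLocalRing R] (f : R) (hf : f ∈ maximalIdeal R)

/-- `Spec R[1/f] → Spec R` -/
noncomputable abbrev toSpec : Spec (CommRingCat.of (Localization.Away f)) ⟶ Spec (CommRingCat.of R) :=
  Spec.map (CommRingCat.ofHom (algebraMap R (Localization.Away f)))

instance : IsOpenImmersion (toSpec f) := inferInstance

theorem range_toSpec : Set.range (toSpec f) = (PrimeSpectrum.basicOpen f : Set (PrimeSpectrum R)) :=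
  PrimeSpectrum.localization_away_comap_range _ _

include hf in
theorem range_le : Set.range (toSpec f) ⊆ Set.range (FEt.puncturedSpec R).ι := by
  rw [Scheme.Opens.range_ι, range_toSpec]
  intro z hz
  change z ∈ ({closedPoint R}ᶜ : Set (PrimeSpectrum R))
  rintro (rfl : z = closedPoint R)
  exact hz hf

/-- `a : Spec R[1/f] → punctured spectrum` -/
noncomputable def incl : Spec (CommRingCat.of (Localization.Away f)) ⟶ (FEt.puncturedSpec R : Scheme.{u}) :=
  IsOpenImmersion.lift (FEt.puncturedSpec R).ι (toSpec f) (range_le f hf)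

theorem incl_ι : incl f hf ≫ (FEt.puncturedSpec R).ι = toSpec f :=
  IsOpenImmersion.lift_fac _ _ _

instance : IsOpenImmersion (incl f hf) := by
  have : IsOpenImmersion (incl f hf ≫ (FEt.puncturedSpec R).ι) := by
    rw [incl_ι]; infer_instance
  exact IsOpenImmersion.of_comp _ (FEt.puncturedSpec R).ι

theorem mem_range_incl (z : (FEt.puncturedSpec R : Scheme.{u})) :
    z ∈ Set.range (incl f hf) ↔ f ∉ ((FEt.puncturedSpec R).ι z : PrimeSpectrum R).asIdeal := by
  have h1 : (FEt.puncturedSpec R).ι z ∈ Set.range (toSpec f) ↔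
      f ∉ ((FEt.puncturedSpec R).ι z : PrimeSpectrum R).asIdeal := by
    rw [range_toSpec]
    rfl
  rw [← h1, ← incl_ι f hf]
  constructor
  · rintro ⟨w, rfl⟩
    exact ⟨w, Scheme.Hom.comp_apply _ _ _⟩
  · rintro ⟨w, hw⟩
    refine ⟨w, (FEt.puncturedSpec R).ι.isOpenEmbedding.injective ?_⟩
    rw [← hw]
    exact (Scheme.Hom.comp_apply _ _ _).symm

/-- the inclusion of `D(f)` in the punctured spectrum of a domain is dense -/
theorem dense_range_incl [IsDomain R] (hf0 : f ≠ 0) : Dense (Set.range (incl f hf)) := by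
  intro z
  let η : PrimeSpectrum R := ⟨⊥, Ideal.isPrime_bot⟩
  have hη : (η : PrimeSpectrum R) ∈ Set.range (toSpec f) := by
    rw [range_toSpec]
    change f ∉ (⊥ : Ideal R)
    exact hf0
  obtain ⟨w, hw⟩ := hη
  have h1 : (FEt.puncturedSpec R).ι (incl f hf w) = η := by
    rw [← hw, ← incl_ι f hf]
    exact (Scheme.Hom.comp_apply _ _ _).symm
  have h2 : (FEt.puncturedSpec R).ι (incl f hf w) ⤳ (FEt.puncturedSpec R).ι z := by
    rw [h1]
    exact (PrimeSpectrum.le_iff_specializes η _).1 (show η.asIdeal ≤ _ from bot_le)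
  have h3 : incl f hf w ⤳ z := (FEt.puncturedSpec R).ι.isOpenEmbedding.isInducing.specializes_iff.1 h2
  have h4 : {incl f hf w} ⊆ Set.range (incl f hf) := Set.singleton_subset_iff.2 ⟨w, rfl⟩
  exact closure_mono h4 (specializes_iff_mem_closure.1 h3)

end Punct

section Normal

variable (R : Type u) [CommRing R] [IsRegularLocalRing R]

theorem isRegularLocalRing_stalkSpec (z : PrimeSpectrum R) :
    IsRegularLocalRing ((Spec (CommRingCat.of R)).presheaf.stalk (show ↥(Spec (CommRingCat.of R)) from z)) := by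
  have h1 : IsRegularLocalRing (Localization.AtPrime z.asIdeal) := Groth.Agent.S0564.result R z.asIdeal
  exact (Groth.Agent.Sga4h.DivEq.isRegularLocalRing_stalk_iff R z).2 h1

theorem isRegularLocalRing_stalk (z : (FEt.puncturedSpec R : Scheme.{u})) :
    IsRegularLocalRing ((FEt.puncturedSpec R : Scheme.{u}).presheaf.stalk z) := by
  have h2 : IsRegularLocalRing ((Spec (CommRingCat.of R)).presheaf.stalk z.1) := isRegularLocalRing_stalkSpec R z.1
  exact IsRegularLocalRing.of_ringEquiv ((FEt.puncturedSpec R).stalkIso z).commRingCatIsoToRingEquiv.symm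

theorem isNormalScheme : Pi1.IsNormalScheme (FEt.puncturedSpec R : Scheme.{u}) := by
  intro z
  have := isRegularLocalRing_stalk R z
  exact ⟨Groth.Agent.CalgA.RegBasic.isDomain _, Groth.Agent.CurvesC.RegNormal.isIntegrallyClosed _⟩

theorem isIso_LCres_incl (f : R) (hf : f ∈ maximalIdeal R) (hf0 : f ≠ 0) (M : Type) [AddCommGroup M] :
    IsIso (Sga4B.ConstLC.LCres (incl f hf) (ULift.{u + 1} M)) := by
  have : IsDomain R := Groth.Agent.CalgA.RegBasic.isDomain R
  have : QuasiCompact (incl f hf) := by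
    have : IsLocallyNoetherian (FEt.puncturedSpec R : Scheme.{u}) := inferInstance
    infer_instance
  rw [← Sga4B.ConstLC.isIso_unit_const_iff]
  exact Groth.Agent.S3104.result _ _ (isNormalScheme R) (incl f hf) (dense_range_incl f hf hf0) M

end Normal

section Sq

open K734.Root

variable {A : Type u} [CommRing A] (t : A) (l : ℕ)

/-- `Spec B → Spec A` -/
noncomputable def πS : Spec (CommRingCat.of (B t l)) ⟶ Spec (CommRingCat.of A) :=
  Spec.map (CommRingCat.ofHom (algebraMap A (B t l)))

theorem isFinite_πS (hl : 0 < l) : IsFinite (πS t l) := by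
  rw [πS, IsFinite.SpecMap_iff]
  have := moduleFinite t l hl
  exact RingHom.finite_algebraMap.2 this

variable [IsLocalRing A] [IsLocalRing (B t l)]

theorem preimage_punct (hl : 0 < l) : FEt.puncturedSpec (B t l) = (πS t l) ⁻¹ᵁ (FEt.puncturedSpec A) := by
  ext z
  change ¬ ((z : PrimeSpectrum (B t l)) = closedPoint (B t l)) ↔
    ¬ (PrimeSpectrum.comap (algebraMap A (B t l)) z = closedPoint A)
  rw [not_iff_not]
  constructor
  · rintro rfl
    exact comap_closedPoint t l hl
  · exact eq_closedPoint t l hl z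

/-- the restriction of `Spec B → Spec A` to the punctured spectra -/
noncomputable def πU (hl : 0 < l) :
    (FEt.puncturedSpec (B t l) : Scheme.{u}) ⟶ (FEt.puncturedSpec A : Scheme.{u}) :=
  ((Spec (CommRingCat.of (B t l))).isoOfEq (preimage_punct t l hl)).hom ≫ πS t l ∣_ FEt.puncturedSpec A

theorem πU_ι (hl : 0 < l) : πU t l hl ≫ (FEt.puncturedSpec A).ι = (FEt.puncturedSpec (B t l)).ι ≫ πS t l := by
  rw [πU, Category.assoc, morphismRestrict_ι, ← Category.assoc, Scheme.isoOfEq_hom_ι]

theorem isFinite_πU (hl : 0 < l) : IsFinite (πU t l hl) := by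
  have := isFinite_πS t l hl
  unfold πU
  infer_instance

theorem sq (hl : 0 < l) (ht : t ∈ maximalIdeal A) (hs : s t l ∈ maximalIdeal (B t l)) :
    incl (s t l) hs ≫ πU t l hl = πV t l ≫ incl t ht := by
  rw [← cancel_mono (FEt.puncturedSpec A).ι, Category.assoc, Category.assoc, πU_ι, incl_ι, ← Category.assoc, incl_ι,
    πS, πV, toSpec, toSpec, ← Spec.map_comp, ← Spec.map_comp, ← CommRingCat.ofHom_comp, ← CommRingCat.ofHom_comp,
    locMap_comp]

end Sq

section Coh

open K734.Root

/-- `push` along a commutative square, one side of which is an isomorphism on `G`. -/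
theorem nonempty_push_iso {P Q X Y : Scheme.{u}} (a' : P ⟶ Q) (q : Q ⟶ Y) (p : P ⟶ X) (a : X ⟶ Y)
    (w : a' ≫ q = p ≫ a) (G : EtCoh.Ab P) (G' : EtCoh.Ab Q) (e : G' ≅ (EtCoh.push a').obj G) :
    Nonempty ((EtCoh.push a).obj ((EtCoh.push p).obj G) ≅ (EtCoh.push q).obj G') :=
  ⟨(EtCoh.pushComp a p).app G ≪≫ (EtCoh.pushCongr w.symm).app G ≪≫ ((EtCoh.pushComp q a').app G).symm ≪≫
    (EtCoh.push q).mapIso e.symm⟩

theorem nonempty_H_of_iso {X : Scheme.{u}} {F G : EtCoh.Ab X} (e : F ≅ G) (n : ℕ) :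
    Nonempty (EtCoh.H X F n ≃+ EtCoh.H X G n) :=
  ⟨((EtCoh.HF X n).mapIso e).addCommGroupIsoToAddEquiv⟩

/-- the cohomology of the direct image along the covering -/
theorem nonempty_H_push_πV {A : Type u} [CommRing A] (t : A) (l : ℕ) (hl : 0 < l) (G : EtCoh.Ab (V' t l)) (n : ℕ) :
    Nonempty (EtCoh.H (V t) ((EtCoh.push (πV t l)).obj G) n ≃+ EtCoh.H (V' t l) G n) := by
  have := isFinite_πV t l hl
  obtain ⟨e⟩ := Groth.Agent.Etrest.HPush.nonempty_HPushEquiv_of_isFinite (πV t l) G n
  exact ⟨e.symm⟩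

variable {A : Type u} [CommRing A] [IsRegularLocalRing A] (t : A) (l : ℕ) (hl : 0 < l)
  (ht : t ∈ maximalIdeal A) (ht2 : t ∉ maximalIdeal A ^ 2)

include ht2

theorem ne_zero : t ≠ 0 := by
  rintro rfl
  exact ht2 (zero_mem _)

theorem connectedSpace_V : ConnectedSpace (V t) := by
  have : IsDomain A := Groth.Agent.CalgA.RegBasic.isDomain A
  exact connectedSpace_away t (ne_zero t ht2)

include hl ht

theorem connectedSpace_V' : ConnectedSpace (V' t l) := by
  have := isRegularLocalRing t l hl ht ht2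
  have : IsDomain (B t l) := Groth.Agent.CalgA.RegBasic.isDomain _
  exact connectedSpace_away (s t l) (ne_zero (s t l) (root_notMem_sq t l hl ht ht2))

/-- `a_* π_* Λ = (π_U)_* Λ` -/
theorem nonempty_push_push_iso [IsLocalRing (B t l)] (hs : s t l ∈ maximalIdeal (B t l)) (M : Type) [AddCommGroup M] :
    Nonempty ((EtCoh.push (incl t ht)).obj ((EtCoh.push (πV t l)).obj
      (Sga4B.ConstLC.LC (V' t l) (ULift.{u + 1} M))) ≅
      (EtCoh.push (πU t l hl)).obj (Sga4B.ConstLC.LC (FEt.puncturedSpec (B t l) : Scheme.{u}) (ULift.{u + 1} M))) := by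
  have hreg := isRegularLocalRing t l hl ht ht2
  have h1 : IsIso (Sga4B.ConstLC.LCres (incl (s t l) hs) (ULift.{u + 1} M)) :=
    isIso_LCres_incl (B t l) (s t l) hs (ne_zero (s t l) (root_notMem_sq t l hl ht ht2)) M
  exact nonempty_push_iso (incl (s t l) hs) (πU t l hl) (πV t l) (incl t ht) (sq t l hl ht hs) _ _
    (asIso (Sga4B.ConstLC.LCres (incl (s t l) hs) (ULift.{u + 1} M)))

/-- `H^n(U, a_* π_* Λ) = H^n(U', Λ)` -/
theorem nonempty_H_push_push [IsLocalRing (B t l)] (M : Type) [AddCommGroup M] (n : ℕ) :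
    Nonempty (EtCoh.H (FEt.puncturedSpec A : Scheme.{u}) ((EtCoh.push (incl t ht)).obj
      ((EtCoh.push (πV t l)).obj (Sga4B.ConstLC.LC (V' t l) (ULift.{u + 1} M)))) n ≃+
      EtCoh.H (FEt.puncturedSpec (B t l) : Scheme.{u})
        (Sga4B.ConstLC.LC (FEt.puncturedSpec (B t l) : Scheme.{u}) (ULift.{u + 1} M)) n) := by
  obtain ⟨e1⟩ := nonempty_push_push_iso t l hl ht ht2 (root_mem_maximalIdeal t l hl ht) M
  obtain ⟨e2⟩ := nonempty_H_of_iso e1 n
  have := isFinite_πU t l hl
  obtain ⟨e3⟩ := Groth.Agent.Etrest.HPush.nonempty_HPushEquiv_of_isFinite (πU t l hl)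
    (Sga4B.ConstLC.LC (FEt.puncturedSpec (B t l) : Scheme.{u}) (ULift.{u + 1} M)) n
  exact ⟨e2.trans e3.symm⟩

/-- `H^n(U, a_* π_* Λ) = H^n(U', Λ)`, constant sheaf -/
theorem nonempty_H_push_push_const [IsLocalRing (B t l)] (M : Type) [AddCommGroup M] (n : ℕ) :
    Nonempty (EtCoh.H (FEt.puncturedSpec A : Scheme.{u}) ((EtCoh.push (incl t ht)).obj
      ((EtCoh.push (πV t l)).obj (Sga4B.ConstLC.LC (V' t l) (ULift.{u + 1} M)))) n ≃+
      EtCoh.H (FEt.puncturedSpec (B t l) : Scheme.{u})
        (EtCoh.const (FEt.puncturedSpec (B t l) : Scheme.{u}) M) n) := by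
  obtain ⟨e1⟩ := nonempty_H_push_push t l hl ht ht2 M n
  obtain ⟨e2⟩ := nonempty_H_of_iso (Sga4B.ConstLC.constIso (FEt.puncturedSpec (B t l) : Scheme.{u}) M) n
  exact ⟨e1.trans e2.symm⟩

/-- `H^n(V, π_* Λ) = H^n(V', Λ)`, constant sheaf -/
theorem nonempty_H_push_const (M : Type) [AddCommGroup M] (n : ℕ) :
    Nonempty (EtCoh.H (V t) ((EtCoh.push (πV t l)).obj (Sga4B.ConstLC.LC (V' t l) (ULift.{u + 1} M))) n ≃+
      EtCoh.H (V' t l) (EtCoh.const (V' t l) M) n) := by
  obtain ⟨e1⟩ := nonempty_H_push_πV t l hl (Sga4B.ConstLC.LC (V' t l) (ULift.{u + 1} M)) n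
  obtain ⟨e2⟩ := nonempty_H_of_iso (Sga4B.ConstLC.constIso (V' t l) M) n
  exact ⟨e1.trans e2.symm⟩

omit hl ht ht2 in
theorem exists_setup' (hl : 0 < l) (hA : EtCoh.IsStrictlyHenselianLocalRing A) (hlA : IsUnit (l : A)) :
    ∃ (σ : V' t l ⟶ V' t l) (ζ : Γ(V t, ⊤)), Setup (πV t l) σ l (f t) ζ (x t l) := by
  obtain ⟨z, hz⟩ := Groth.Agent.Sga4h.TameFieldAlg.exists_cyclotomic_root A hA l hlA
  obtain ⟨σ, hσ⟩ := exists_setup t l hl hlA z hz
  exact ⟨σ, _, hσ⟩

end Coh

end K734.Cov
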