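import Groth.Agent.EtDual.K3.DivDef
import Groth.Agent.CalgA.RegBasic
import Groth.Agent.S4165
import Groth.Agent.Sga4h.X144Geo1
import Groth.Agent.Etrest.HConstIso
import Groth.Agent.Etrest.ConstBasic
import Groth.Agent.Lefpen.H717.ConstRed
import Groth.Agent.Sga5.ShriekMV

/-!
# Purity in codimension one: the one-dimensional case and the dévissage to prime coefficients

* `subsingleton_H_const`: `H^q(Z, M) = 0` for a finite abelian group `M` if `H^q(Z, ℤ/l) = 0` for every
  prime `l ∣ |M|`;
* `divPureAt_of_prime`: `DivPureAt l A` for all primes `l ∈ Aˣ` gives `DivPureAt n A` for all `n ∈ Aˣ`;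
* `divPureAt_of_dim_one`: `DivPureAt n A` if `dim A = 1`.
-/

set_option autoImplicit false
universe u
open CategoryTheory CategoryTheory.Limits AlgebraicGeometry Opposite

namespace K734.Dev

open Groth.Agent.Lefpen.H717.ConstRed

/-! ### Dévissage -/

section Ab

variable (M : Type) [AddCommGroup M] (A : AddSubgroup M)

/-- `A ⟶ M`, one universe up -/
def subHom : AddCommGrpCat.of (ULift.{u + 1} A) ⟶ AddCommGrpCat.of (ULift.{u + 1} M) :=
  AddCommGrpCat.ofHom
    { toFun := fun x => ULift.up (x.down : M)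
      map_zero' := rfl
      map_add' := fun _ _ => rfl }

/-- `M ⟶ M/A`, one universe up -/
def quotHom : AddCommGrpCat.of (ULift.{u + 1} M) ⟶ AddCommGrpCat.of (ULift.{u + 1} (M ⧸ A)) :=
  AddCommGrpCat.ofHom
    { toFun := fun x => ULift.up (QuotientAddGroup.mk' A x.down)
      map_zero' := rfl
      map_add' := fun _ _ => rfl }

theorem subHom_quotHom : subHom.{u} M A ≫ quotHom.{u} M A = 0 := by
  refine AddCommGrpCat.hom_ext (AddMonoidHom.ext fun x => ?_)
  apply ULift.down_injective
  change QuotientAddGroup.mk' A (x.down : M) = 0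
  exact (QuotientAddGroup.eq_zero_iff _).2 x.down.2

theorem shortExact_sub : (ShortComplex.mk (subHom.{u} M A) (quotHom.{u} M A) (subHom_quotHom M A)).ShortExact where
  exact := by
    rw [ShortComplex.ab_exact_iff]
    intro x hx
    have h1 : QuotientAddGroup.mk' A x.down = 0 := congrArg ULift.down hx
    exact ⟨ULift.up ⟨x.down, (QuotientAddGroup.eq_zero_iff _).1 h1⟩, rfl⟩
  mono_f := by
    rw [AddCommGrpCat.mono_iff_injective]
    intro x y h
    have h1 : (x.down : M) = y.down := congrArg ULift.down h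
    exact ULift.down_injective (Subtype.ext h1)
  epi_g := by
    rw [AddCommGrpCat.epi_iff_surjective]
    intro y
    obtain ⟨k, hk⟩ := QuotientAddGroup.mk'_surjective A y.down
    exact ⟨ULift.up k, ULift.down_injective hk⟩

end Ab

theorem exists_shortExact_const (X : Scheme.{u}) (M : Type) [AddCommGroup M] (A : AddSubgroup M) :
    ∃ (f : EtCoh.const X A ⟶ EtCoh.const X M) (g : EtCoh.const X M ⟶ EtCoh.const X (M ⧸ A)) (w : f ≫ g = 0),
      (ShortComplex.mk f g w).ShortExact := by
  have := preservesFiniteLimits_constantSheaf X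
  have := preservesFiniteColimits_constantSheaf X
  have := additive_constantSheaf X
  have h := (shortExact_sub.{u} M A).map_of_exact
    (constantSheaf X.smallEtaleTopology AddCommGrpCat.{u + 1})
  exact ⟨_, _, _, h⟩

/-- Constant sheaves of isomorphic groups are isomorphic. -/
noncomputable def constIso (X : Scheme.{u}) {M N : Type} [AddCommGroup M] [AddCommGroup N] (e : M ≃+ N) :
    EtCoh.const X M ≅ EtCoh.const X N :=
  (constantSheaf X.smallEtaleTopology AddCommGrpCat.{u + 1}).mapIso
    (AddEquiv.toAddCommGrpIso ((AddEquiv.ulift.trans e).trans AddEquiv.ulift.symm))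

/-- `H^q(X, M) = 0` for a finite abelian group `M` if `H^q(X, ℤ/l) = 0` for every prime `l` dividing `|M|`. -/
theorem subsingleton_H_const (X : Scheme.{u}) (q : ℕ) (M : Type) [AddCommGroup M] [Finite M]
    (h : ∀ l : ℕ, l.Prime → l ∣ Nat.card M → Subsingleton (EtCoh.H X (EtCoh.const X (ZMod l)) q)) :
    Subsingleton (EtCoh.H X (EtCoh.const X M) q) := by
  suffices H : ∀ (c : ℕ) (M : Type) [AddCommGroup M] [Finite M], Nat.card M = c →
      (∀ l : ℕ, l.Prime → l ∣ Nat.card M → Subsingleton (EtCoh.H X (EtCoh.const X (ZMod l)) q)) →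
      Subsingleton (EtCoh.H X (EtCoh.const X M) q) from H _ M rfl h
  intro c
  induction c using Nat.strong_induction_on with
  | _ c ih =>
    intro M _ _ hM h
    by_cases hc : c = 1
    · have : Subsingleton M := (Nat.card_eq_one_iff_unique.1 (hM.trans hc)).1
      refine Groth.Agent.Sga5.ShriekMV.subsingleton_H_of_isZero ?_ q
      have hz : IsZero (AddCommGrpCat.of (ULift.{u + 1} M)) :=
        AddCommGrpCat.isZero_of_subsingleton _
      have := additive_constantSheaf X
      exact (constantSheaf X.smallEtaleTopology AddCommGrpCat.{u + 1}).map_isZero hz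
    · obtain ⟨p, hp, hpc⟩ := Nat.exists_prime_and_dvd hc
      have : Fact p.Prime := ⟨hp⟩
      obtain ⟨x, hx⟩ := exists_prime_addOrderOf_dvd_card' (G := M) p (hM ▸ hpc)
      let A : AddSubgroup M := AddSubgroup.zmultiples x
      have hA : Nat.card A = p := (Nat.card_zmultiples x).trans hx
      have hcard : Nat.card M = Nat.card (M ⧸ A) * Nat.card A := AddSubgroup.card_eq_card_quotient_mul_card_addSubgroup A
      obtain ⟨f, g, w, hS⟩ := exists_shortExact_const X M A
      have e : ZMod p ≃+ A := (ZMod.ringEquivCongr hA.symm).toAddEquiv.trans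
        (zmodAddCyclicAddEquiv (G := A) inferInstance)
      refine Groth.Agent.Sga5.ShriekMV.subsingleton_mid hS q ?_ ?_
      · exact Groth.Agent.Sga5.ShriekMV.subsingleton_H_of_iso (constIso X e) q (h p hp (hM ▸ hpc))
      · have hpos : 0 < Nat.card (M ⧸ A) := Nat.card_pos
        refine ih (Nat.card (M ⧸ A)) ?_ (M ⧸ A) rfl fun l hl hl' => h l hl ?_
        · rw [← hM, hcard, hA]
          exact lt_mul_of_one_lt_right hpos hp.one_lt
        · exact hcard ▸ Dvd.dvd.mul_right hl' _

theorem subsingleton_H_const_zmod (X : Scheme.{u}) (q n : ℕ) (hn : n ≠ 0)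
    (h : ∀ l : ℕ, l.Prime → l ∣ n → Subsingleton (EtCoh.H X (EtCoh.const X (ZMod l)) q)) :
    Subsingleton (EtCoh.H X (EtCoh.const X (ZMod n)) q) := by
  have : NeZero n := ⟨hn⟩
  refine subsingleton_H_const X q (ZMod n) fun l hl hl' => h l hl ?_
  rwa [Nat.card_zmod] at hl'

theorem divPureAt_of_prime (A : Type u) [CommRing A] [IsLocalRing A]
    (h : ∀ l : ℕ, l.Prime → IsUnit (l : A) → K3.DivDef.DivPureAt l A)
    (n : ℕ) (hn0 : n ≠ 0) (hn : IsUnit (n : A)) : K3.DivDef.DivPureAt n A := by
  intro t ht ht2 q hq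
  refine subsingleton_H_const_zmod _ q n hn0 fun l hl hln => ?_
  refine h l hl ?_ t ht ht2 q hq
  obtain ⟨c, rfl⟩ := hln
  rw [Nat.cast_mul] at hn
  exact isUnit_of_mul_isUnit_left hn

/-! ### Dimension one -/

section dim1

section dvr

variable (A : Type u) [CommRing A] [IsDomain A] [IsDiscreteValuationRing A]

/-- An element of `𝔪 ∖ 𝔪²` is a uniformizer. -/
theorem irreducible_of_notMem_sq (t : A) (ht : t ∈ IsLocalRing.maximalIdeal A)
    (ht2 : t ∉ IsLocalRing.maximalIdeal A ^ 2) : Irreducible t := by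
  have ht0 : t ≠ 0 := fun h => ht2 (h ▸ Ideal.zero_mem _)
  obtain ⟨ϖ, hϖ⟩ := IsDiscreteValuationRing.exists_irreducible A
  obtain ⟨n, u, rfl⟩ := IsDiscreteValuationRing.eq_unit_mul_pow_irreducible ht0 hϖ
  have hm : IsLocalRing.maximalIdeal A = Ideal.span {ϖ} := hϖ.maximalIdeal_eq
  have hn : n = 1 := by
    rcases Nat.lt_or_ge 1 n with h | h
    · exfalso
      apply ht2
      refine Ideal.mul_mem_left _ _ ?_
      obtain ⟨k, rfl⟩ := Nat.exists_eq_add_of_le h
      rw [pow_add]
      refine Ideal.mul_mem_right _ _ ?_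
      exact Ideal.pow_mem_pow (hm ▸ Ideal.mem_span_singleton_self ϖ) 2
    · rcases Nat.le_one_iff_eq_zero_or_eq_one.1 h with rfl | rfl
      · exfalso
        rw [pow_zero, mul_one] at ht
        exact (IsLocalRing.mem_maximalIdeal _).1 ht u.isUnit
      · rfl
  subst hn
  rw [pow_one]
  exact (irreducible_isUnit_mul u.isUnit).2 hϖ

/-- The fraction field of a discrete valuation ring is `A[1/t]`, `t` a uniformizer. -/
theorem isLocalization_away (t : A) (ht : Irreducible t) (K : Type u)
    [Field K] [Algebra A K] [IsFractionRing A K] : IsLocalization.Away t K := by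
  have ht0 : algebraMap A K t ≠ 0 := by
    rw [Ne, FaithfulSMul.algebraMap_eq_zero_iff]
    exact ht.ne_zero
  refine (isLocalization_iff _ _).2 ⟨?_, ?_, ?_⟩
  · rintro ⟨_, n, rfl⟩
    change IsUnit (algebraMap A K (t ^ n))
    rw [map_pow]
    exact (IsUnit.mk0 _ ht0).pow n
  · intro z
    obtain ⟨a, b, hb, rfl⟩ := IsFractionRing.div_surjective (A := A) z
    have hb0 : b ≠ 0 := nonZeroDivisors.ne_zero hb
    obtain ⟨n, u, rfl⟩ := IsDiscreteValuationRing.eq_unit_mul_pow_irreducible hb0 ht
    refine ⟨⟨a * (u⁻¹ : Aˣ), ⟨t ^ n, n, rfl⟩⟩, ?_⟩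
    have h1 : algebraMap A K (u : A) ≠ 0 := by
      rw [Ne, FaithfulSMul.algebraMap_eq_zero_iff]
      exact u.ne_zero
    have h3 : algebraMap A K (u : A) * algebraMap A K ((u⁻¹ : Aˣ) : A) = 1 := by
      rw [← map_mul, Units.mul_inv, map_one]
    change algebraMap A K a / algebraMap A K (↑u * t ^ n) * algebraMap A K (t ^ n) =
      algebraMap A K (a * (u⁻¹ : Aˣ))
    have h4 : algebraMap A K (t ^ n) ≠ 0 := by
      rw [map_pow]
      exact pow_ne_zero n ht0
    rw [map_mul, map_mul, div_mul_eq_mul_div, mul_div_mul_right _ _ h4, div_eq_iff h1, mul_assoc,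
      mul_comm (algebraMap A K ((u⁻¹ : Aˣ) : A)), h3, mul_one]
  · intro x y hxy
    exact ⟨1, by rw [IsFractionRing.injective A K hxy]⟩

theorem nonempty_iso_spec_away (t : A) (ht : Irreducible t) (K : Type u)
    [Field K] [Algebra A K] [IsFractionRing A K] :
    Nonempty (Spec (CommRingCat.of K) ≅ Spec (CommRingCat.of (Localization.Away t))) := by
  have := isLocalization_away A t ht K
  exact ⟨Scheme.Spec.mapIso (RingEquiv.toCommRingCatIso
    (IsLocalization.algEquiv (Submonoid.powers t) (Localization.Away t) K).toRingEquiv).op⟩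

end dvr

/-- Purity in codimension one for a strictly henselian discrete valuation ring. -/
theorem divPureAt_of_dim_one (A : Type u) [CommRing A] [IsRegularLocalRing A]
    (hA : EtCoh.IsStrictlyHenselianLocalRing A) (hd : ringKrullDim A = 1)
    (n : ℕ) (hn0 : n ≠ 0) (hn : IsUnit (n : A)) : K3.DivDef.DivPureAt n A := by
  intro t ht ht2 q hq
  have : IsDomain A := Groth.Agent.CalgA.RegBasic.isDomain A
  have := Groth.Agent.Sga4h.X144Geo1.isDiscreteValuationRing A hd
  have : NeZero n := ⟨hn0⟩
  have htirr := irreducible_of_notMem_sq A t ht ht2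
  obtain ⟨e⟩ := nonempty_iso_spec_away A t htirr (FractionRing A)
  obtain ⟨E⟩ := Groth.Agent.Etrest.HConstIso.nonempty_HConst e (ZMod n) q
  have h := Groth.Agent.S4165.result A (FractionRing A) hA n hn
    (EtCoh.const (Spec (CommRingCat.of (FractionRing A))) (ZMod n))
    (Groth.Agent.Etrest.ConstBasic.killedBy_const _ _ n fun m => by
      rw [nsmul_eq_mul, ZMod.natCast_self, zero_mul]) q hq
  exact E.toEquiv.subsingleton

end dim1

end K734.Dev
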