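import Groth.Agent.EtDual.K734.Dev
import Groth.Agent.EtDual.K734.Cov

/-!
# The punctured spectrum of a discrete valuation ring

For a regular local ring `A` of dimension one and `t ∈ 𝔪`, `t ≠ 0`, the open immersion
`K734.Cov.incl t : Spec A[1/t] → punctured spectrum of A` is an isomorphism; hence
`H^q(punctured spectrum, ℤ/n) = 0` for `q ≥ 2` if `A` is strictly henselian and `n ∈ Aˣ`, `n ≥ 1`.
-/

set_option autoImplicit false
universe u
open CategoryTheory CategoryTheory.Limits AlgebraicGeometry Opposite IsLocalRing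

namespace K734.DevP

open K734.Cov

variable (A : Type u) [CommRing A] [IsRegularLocalRing A]

theorem surjective_incl (hd : ringKrullDim A = 1) (t : A) (ht : t ∈ maximalIdeal A) (ht0 : t ≠ 0) :
    Function.Surjective (incl t ht) := by
  have : IsDomain A := Groth.Agent.CalgA.RegBasic.isDomain A
  have := Groth.Agent.Sga4h.X144Geo1.isDiscreteValuationRing A hd
  intro z
  refine (mem_range_incl t ht z).2 fun h => ?_
  rcases Groth.Agent.Sga4h.X144Geo1.eq_or_eq_closedPoint A
    ((FEt.puncturedSpec A).ι z : PrimeSpectrum A) with h1 | h1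
  · rw [h1] at h
    exact ht0 h
  · have h2 : (FEt.puncturedSpec A).ι z ∈ Set.range (FEt.puncturedSpec A).ι := ⟨z, rfl⟩
    rw [Scheme.Opens.range_ι] at h2
    exact h2 h1

theorem isIso_incl (hd : ringKrullDim A = 1) (t : A) (ht : t ∈ maximalIdeal A) (ht0 : t ≠ 0) :
    IsIso (incl t ht) := by
  have : Epi (incl t ht).base :=
    (TopCat.epi_iff_surjective _).2 (surjective_incl A hd t ht ht0)
  exact IsOpenImmersion.isIso (incl t ht)

/-- `H^q(punctured spectrum of A, ℤ/n) = 0` for `q ≥ 2` and a strictly henselian discrete valuation ring `A`. -/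
theorem subsingleton_H_puncturedSpec (hA : EtCoh.IsStrictlyHenselianLocalRing A) (hd : ringKrullDim A = 1)
    (n : ℕ) (hn0 : n ≠ 0) (hn : IsUnit (n : A)) (q : ℕ) (hq : 2 ≤ q) :
    Subsingleton (EtCoh.H (FEt.puncturedSpec A : Scheme.{u})
      (EtCoh.const (FEt.puncturedSpec A : Scheme.{u}) (ZMod n)) q) := by
  have : IsDomain A := Groth.Agent.CalgA.RegBasic.isDomain A
  have := Groth.Agent.Sga4h.X144Geo1.isDiscreteValuationRing A hd
  obtain ⟨t, ht⟩ := IsDiscreteValuationRing.exists_irreducible A
  have htm : t ∈ maximalIdeal A := by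
    rw [ht.maximalIdeal_eq]
    exact Ideal.mem_span_singleton_self t
  have htn : t ∉ maximalIdeal A ^ 2 := by
    intro h
    rw [ht.maximalIdeal_eq, Ideal.span_singleton_pow, Ideal.mem_span_singleton] at h
    obtain ⟨c, hc⟩ := h
    have h1 : t * 1 = t * (t * c) := by rw [mul_one, ← mul_assoc, ← pow_two]; exact hc
    exact ht.1 (IsUnit.of_mul_eq_one _ (mul_left_cancel₀ ht.ne_zero h1).symm)
  have := isIso_incl A hd t htm ht.ne_zero
  obtain ⟨E⟩ := Groth.Agent.Etrest.HConstIso.nonempty_HConst (asIso (incl t htm)).symm (ZMod n) q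
  have h := K734.Dev.divPureAt_of_dim_one A hA hd n hn0 hn t htm htn q hq
  exact E.symm.toEquiv.subsingleton

end K734.DevP
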