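import Groth.Prelude.Def_EtBase
import Groth.Agent.CAlg.K83.Kummer
import Groth.Agent.CalgA.RegBasic
import Groth.Agent.CalgC.RegLocal
import Groth.Agent.S0505

/-!
# Adjoining an `l`-th root of a regular parameter to a strictly henselian regular local ring

`A` strictly henselian regular local ring, `l > 0` invertible in `A`, `t ∈ 𝔪 ∖ 𝔪²`, `B = A[X]/(X^l - t)`, `s` the
class of `X`.  Then `B` is a strictly henselian regular local ring of the same dimension, finite free over `A`,
`s ∈ 𝔪_B ∖ 𝔪_B²`, `B/s = A/t`, and `B[1/s]` is finite étale over `A[1/t]`.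
-/

set_option autoImplicit false
universe u

namespace K734.Root

open Polynomial IsLocalRing

variable {A : Type u} [CommRing A] (t : A) (l : ℕ)

/-- `A[X]/(X^l - t)` -/
abbrev B : Type u := AdjoinRoot (X ^ l - C t : A[X])

/-- the class of `X` -/
noncomputable abbrev s : B t l := AdjoinRoot.root (X ^ l - C t : A[X])

theorem root_pow : s t l ^ l = algebraMap A (B t l) t := K83.Kummer.root_pow t l

variable (hl : 0 < l)

include hl

theorem moduleFinite : Module.Finite A (B t l) := (monic_X_pow_sub_C t hl.ne').finite_adjoinRoot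

theorem moduleFree : Module.Free A (B t l) := (monic_X_pow_sub_C t hl.ne').free_adjoinRoot

/-- `B/s ≃ A/t` -/
noncomputable def quotEquiv : (B t l ⧸ Ideal.span {s t l}) ≃+* A ⧸ Ideal.span {t} :=
  (Ideal.quotEquivOfEq (K83.Kummer.ker_toQuot t l hl).symm).trans
    (RingHom.quotientKerEquivOfSurjective (K83.Kummer.toQuot_surjective t l hl))

theorem quotEquiv_algebraMap (a : A) :
    quotEquiv t l hl (Ideal.Quotient.mk _ (algebraMap A (B t l) a)) = Ideal.Quotient.mk _ a :=
  K83.Kummer.toQuot_of t l hl a

/-- `B/s ≃ A/t` as `A`-algebras -/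
noncomputable def quotAlgEquiv : (B t l ⧸ Ideal.span {s t l}) ≃ₐ[A] A ⧸ Ideal.span {t} :=
  AlgEquiv.ofRingEquiv (f := quotEquiv t l hl) fun a => quotEquiv_algebraMap t l hl a

section Local

variable [IsLocalRing A] (ht : t ∈ maximalIdeal A)

omit hl in
include ht in
theorem nontrivial_quot : Nontrivial (A ⧸ Ideal.span {t}) := by
  rw [Ideal.Quotient.nontrivial_iff]
  intro h
  have h1 : (Ideal.span {t} : Ideal A) ≤ maximalIdeal A := by
    rwa [Ideal.span_singleton_le_iff_mem]
  rw [h] at h1
  exact (maximalIdeal.isMaximal A).ne_top (top_le_iff.1 h1)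

include ht in
theorem nontrivial : Nontrivial (B t l) := by
  have := nontrivial_quot t ht
  exact (K83.Kummer.toQuot t l hl).domain_nontrivial

include ht in
theorem injective : Function.Injective (algebraMap A (B t l)) := by
  have := nontrivial t l hl ht
  have := moduleFree t l hl
  exact FaithfulSMul.algebraMap_injective A (B t l)

theorem comap_eq (M : Ideal (B t l)) [M.IsMaximal] : M.comap (algebraMap A (B t l)) = maximalIdeal A := by
  have := moduleFinite t l hl
  have h1 : (M.comap (algebraMap A (B t l))).IsMaximal := Ideal.isMaximal_comap_of_isIntegral_of_isMaximal M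
  exact IsLocalRing.eq_maximalIdeal h1

include ht in
theorem root_mem (M : Ideal (B t l)) [M.IsMaximal] : s t l ∈ M := by
  have h1 : algebraMap A (B t l) t ∈ M := by
    have := comap_eq t l hl M
    rw [← this] at ht
    exact ht
  rw [← root_pow] at h1
  exact Ideal.IsPrime.mem_of_pow_mem inferInstance _ h1

include ht in
theorem isLocalRing : IsLocalRing (B t l) := by
  have := nontrivial t l hl ht
  have hloc : IsLocalRing (A ⧸ Ideal.span {t}) := by
    have := nontrivial_quot t ht
    exact IsLocalRing.of_surjective' (Ideal.Quotient.mk (Ideal.span {t})) Ideal.Quotient.mk_surjective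
  have hker : ∀ (M : Ideal (B t l)) [M.IsMaximal],
      M = (maximalIdeal (A ⧸ Ideal.span {t})).comap (K83.Kummer.toQuot t l hl) := by
    intro M hM
    have h1 : RingHom.ker (K83.Kummer.toQuot t l hl) ≤ M := by
      rw [K83.Kummer.ker_toQuot, Ideal.span_singleton_le_iff_mem]
      exact root_mem t l hl ht M
    have h2 : (M.map (K83.Kummer.toQuot t l hl)).comap (K83.Kummer.toQuot t l hl) = M := by
      rw [Ideal.comap_map_of_surjective _ (K83.Kummer.toQuot_surjective t l hl)]
      exact sup_eq_left.2 h1
    have h3 : (M.map (K83.Kummer.toQuot t l hl)) ≠ ⊤ := by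
      intro h4
      rw [h4, Ideal.comap_top] at h2
      exact hM.ne_top h2.symm
    have h4 := le_maximalIdeal h3
    refine hM.eq_of_le ?_ ?_
    · exact Ideal.comap_ne_top _ (maximalIdeal.isMaximal _).ne_top
    · conv_lhs => rw [← h2]
      exact Ideal.comap_mono h4
  refine IsLocalRing.of_unique_max_ideal ?_
  obtain ⟨M, hM⟩ := Ideal.exists_maximal (B t l)
  exact ⟨M, hM, fun M' hM' => (hker M').trans (hker M).symm⟩

theorem isLocalHom [IsLocalRing (B t l)] : IsLocalHom (algebraMap A (B t l)) := by
  have h1 := comap_eq t l hl (maximalIdeal (B t l))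
  exact ((local_hom_TFAE (algebraMap A (B t l))).out 0 4).2 h1

include ht in
theorem root_mem_maximalIdeal [IsLocalRing (B t l)] : s t l ∈ maximalIdeal (B t l) :=
  root_mem t l hl ht _

theorem map_le [IsLocalRing (B t l)] : (maximalIdeal A).map (algebraMap A (B t l)) ≤ maximalIdeal (B t l) := by
  rw [Ideal.map_le_iff_le_comap, comap_eq t l hl]

/-- the only prime over the closed point is the closed point -/
theorem eq_maximalIdeal [IsLocalRing (B t l)] (P : Ideal (B t l)) [P.IsPrime]
    (hP : P.comap (algebraMap A (B t l)) = maximalIdeal A) : P = maximalIdeal (B t l) := by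
  have := moduleFinite t l hl
  have : P.IsMaximal := by
    refine Ideal.isMaximal_of_isIntegral_of_isMaximal_comap (R := A) P ?_
    rw [hP]
    infer_instance
  exact IsLocalRing.eq_maximalIdeal this

theorem eq_closedPoint [IsLocalRing (B t l)] (P : PrimeSpectrum (B t l))
    (hP : P.comap (algebraMap A (B t l)) = closedPoint A) : P = closedPoint (B t l) := by
  ext1
  exact eq_maximalIdeal t l hl P.asIdeal (congrArg PrimeSpectrum.asIdeal hP)

theorem comap_closedPoint [IsLocalRing (B t l)] :
    (closedPoint (B t l)).comap (algebraMap A (B t l)) = closedPoint A := by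
  ext1
  exact comap_eq t l hl (maximalIdeal (B t l))

omit [IsLocalRing A] in
theorem henselianLocalRing (hA : EtCoh.IsStrictlyHenselianLocalRing A) [IsLocalRing (B t l)] :
    HenselianLocalRing (B t l) := by
  obtain ⟨h1, h2⟩ := hA
  have := moduleFinite t l hl
  exact Groth.Agent.S0505.result A (B t l)

include ht in
theorem ringEquiv_residue [IsLocalRing (B t l)] :
    Nonempty (ResidueField (B t l) ≃+* ResidueField A) := by
  have hsurj : Function.Surjective (K83.Kummer.toQuot t l hl) := K83.Kummer.toQuot_surjective t l hl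
  have h0 : ∀ a ∈ Ideal.span {t}, residue A a = 0 := fun a ha => by
    rw [residue_eq_zero_iff]
    exact (Ideal.span_singleton_le_iff_mem _).2 ht ha
  let φ : B t l →+* ResidueField A :=
    (Ideal.Quotient.lift (Ideal.span {t}) (residue A) h0).comp (K83.Kummer.toQuot t l hl)
  have hφ : Function.Surjective φ := by
    intro x
    obtain ⟨a, rfl⟩ := residue_surjective x
    refine ⟨AdjoinRoot.of _ a, ?_⟩
    change Ideal.Quotient.lift (Ideal.span {t}) (residue A) h0 (K83.Kummer.toQuot t l hl (AdjoinRoot.of _ a)) = _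
    rw [K83.Kummer.toQuot_of]
    rfl
  have hmax : (RingHom.ker φ).IsMaximal := RingHom.ker_isMaximal_of_surjective φ hφ
  have hker : RingHom.ker φ = maximalIdeal (B t l) := IsLocalRing.eq_maximalIdeal hmax
  exact ⟨(Ideal.quotEquivOfEq hker.symm).trans (RingHom.quotientKerEquivOfSurjective hφ)⟩

omit hl in
theorem isSepClosed_of_ringEquiv {k k' : Type*} [Field k] [Field k'] [IsSepClosed k] (φ : k ≃+* k') :
    IsSepClosed k' := by
  apply IsSepClosed.of_exists_root
  intro p hp hpi hps
  have hps' : (p.map (φ.symm : k' →+* k)).Separable := hps.map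
  have hdeg : (p.map (φ.symm : k' →+* k)).degree ≠ 0 := by
    rw [degree_map]
    exact (degree_pos_of_irreducible hpi).ne'
  obtain ⟨x, hx⟩ := IsSepClosed.exists_root _ hdeg hps'
  refine ⟨φ x, ?_⟩
  have h1 : eval₂ (φ.symm : k' →+* k) x p = 0 := by
    rw [← eval_map]; exact hx
  have h2 := congrArg φ h1
  rw [map_zero] at h2
  have h3 : (φ : k →+* k') (eval₂ (φ.symm : k' →+* k) x p) =
      eval₂ ((φ : k →+* k').comp (φ.symm : k' →+* k)) (φ x) p := Polynomial.hom_eval₂ _ _ _ _
  have h4 : (φ : k →+* k').comp (φ.symm : k' →+* k) = RingHom.id k' := by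
    ext y; simp
  rw [h4, eval₂_id] at h3
  exact h3.symm.trans h2

include ht in
theorem isStrictlyHenselian (hA : EtCoh.IsStrictlyHenselianLocalRing A) :
    EtCoh.IsStrictlyHenselianLocalRing (B t l) := by
  have h0 := isLocalRing t l hl ht
  have h1 := henselianLocalRing t l hl hA
  obtain ⟨h2, h3⟩ := hA
  obtain ⟨e⟩ := ringEquiv_residue t l hl ht
  refine ⟨h1, ?_⟩
  have h4 : IsSepClosed (ResidueField A) := h3
  exact isSepClosed_of_ringEquiv e.symm

end Local

section Loc

variable (Bs : Type u) [CommRing Bs] [Algebra (B t l) Bs] [IsLocalization.Away (s t l) Bs]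

omit hl in
/-- inverting a power -/
theorem away_pow {C : Type*} [CommRing C] (x : C) (n : ℕ) (hn : 0 < n) (Cx : Type*) [CommRing Cx] [Algebra C Cx]
    [IsLocalization.Away x Cx] : IsLocalization.Away (x ^ n) Cx := by
  refine IsLocalization.Away.mk _ ?_ (fun z => ?_) (fun a b hab => ?_)
  · rw [map_pow]
    exact IsLocalization.Away.algebraMap_pow_isUnit x n
  · obtain ⟨m, a, hm⟩ := IsLocalization.Away.surj x z
    refine ⟨m, a * x ^ (n * m - m), ?_⟩
    have h1 : m ≤ n * m := Nat.le_mul_of_pos_left m hn
    rw [map_pow, ← pow_mul, map_mul, ← hm, map_pow, mul_assoc, ← pow_add, Nat.add_sub_cancel' h1]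
  · obtain ⟨m, hm⟩ := IsLocalization.Away.exists_of_eq x hab
    refine ⟨m, ?_⟩
    have h1 : m ≤ n * m := Nat.le_mul_of_pos_left m hn
    rw [← pow_mul, ← Nat.sub_add_cancel h1, pow_add, mul_assoc, hm, mul_assoc]

/-- `B[1/s] = B[1/t]` -/
theorem isLocalization_away : IsLocalization.Away (algebraMap A (B t l) t) Bs := by
  rw [← root_pow]
  exact away_pow (s t l) l hl Bs

theorem isLocalization_submonoid :
    IsLocalization (Algebra.algebraMapSubmonoid (B t l) (Submonoid.powers t)) Bs := by
  have h1 := isLocalization_away t l hl Bs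
  have h2 : Algebra.algebraMapSubmonoid (B t l) (Submonoid.powers t) =
      Submonoid.powers (algebraMap A (B t l) t) := by
    rw [Algebra.algebraMapSubmonoid_powers]
  rw [h2]
  exact h1

variable [Algebra A Bs] [IsScalarTower A (B t l) Bs]

include t

theorem etale (hlA : IsUnit (l : A)) : Algebra.Etale A Bs := by
  have h1 := K83.Kummer.etale_away t l hl hlA
  have e : Localization.Away (s t l) ≃ₐ[B t l] Bs := IsLocalization.algEquiv (Submonoid.powers (s t l)) _ _
  exact Algebra.Etale.of_equiv (e.restrictScalars A)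

variable (At : Type u) [CommRing At] [Algebra A At] [IsLocalization.Away t At]
  [Algebra At Bs] [IsScalarTower A At Bs]

/-- `B[1/s]` is étale over `A[1/t]` -/
theorem etale' (hlA : IsUnit (l : A)) : Algebra.Etale At Bs := by
  have h1 := etale t l hl Bs hlA
  have h2 : Algebra.Etale A At := Algebra.Etale.of_isLocalizationAway t
  exact Algebra.Etale.of_restrictScalars A At Bs

/-- `B[1/s]` is finite over `A[1/t]` -/
theorem finite' : Module.Finite At Bs := by
  have := moduleFinite t l hl
  have := isLocalization_submonoid t l hl Bs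
  exact Module.Finite.of_isLocalization A (B t l) (Submonoid.powers t)

/-- `B[1/s] = A[1/t] ⊗ B` -/
theorem isPushout : Algebra.IsPushout A (B t l) At Bs := by
  have := isLocalization_submonoid t l hl Bs
  exact Algebra.isPushout_of_isLocalization (Submonoid.powers t) At (B t l) Bs

end Loc

section Regular

variable [IsRegularLocalRing A] (ht : t ∈ maximalIdeal A) (ht2 : t ∉ maximalIdeal A ^ 2)

include ht ht2

theorem root_mem_nonZeroDivisors : s t l ∈ nonZeroDivisors (B t l) := by
  have h0 : IsDomain A := Groth.Agent.CalgA.RegBasic.isDomain A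
  refine K83.Kummer.root_mem_nonZeroDivisors t l hl (mem_nonZeroDivisors_of_ne_zero ?_)
  rintro rfl
  exact ht2 (zero_mem _)

theorem isRegularLocalRing_quot : IsRegularLocalRing (B t l ⧸ Ideal.span {s t l}) := by
  have := (Groth.Agent.CalgA.RegBasic.quotient_of_notMem_sq t ht ht2).1
  exact IsRegularLocalRing.of_ringEquiv (quotEquiv t l hl).symm

/-- `B` is a regular local ring -/
theorem isRegularLocalRing : IsRegularLocalRing (B t l) := by
  have h0 := isLocalRing t l hl ht
  have := moduleFinite t l hl
  have : IsNoetherianRing (B t l) := IsNoetherianRing.of_finite A _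
  have := isRegularLocalRing_quot t l hl ht ht2
  exact Groth.Agent.CalgA.RegBasic.of_quotient (s t l) (root_mem_maximalIdeal t l hl ht)
    (root_mem_nonZeroDivisors t l hl ht ht2)

theorem root_notMem_sq [IsLocalRing (B t l)] : s t l ∉ maximalIdeal (B t l) ^ 2 := by
  have hr := isRegularLocalRing t l hl ht ht2
  have h := isRegularLocalRing_quot t l hl ht ht2
  intro h2
  have h1 := (Groth.Agent.CalgC.RegLocal.isRegularLocalRing_iff_of_surjective (R := B t l)
    (B := B t l ⧸ Ideal.span {s t l}) Ideal.Quotient.mk_surjective).mp inferInstance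
  have h3 : RingHom.ker (algebraMap (B t l) (B t l ⧸ Ideal.span {s t l})) = Ideal.span {s t l} := Ideal.mk_ker
  rw [h3] at h1
  have h4 : Ideal.span {s t l} = ⊥ := by
    refine Submodule.eq_bot_of_le_smul_of_le_jacobson_bot (maximalIdeal (B t l)) _
      (Ideal.span {s t l}).fg_of_isNoetherianRing ?_ (maximalIdeal_le_jacobson _)
    intro x hx
    refine h1 ⟨hx, ?_⟩
    have h5 : Ideal.span {s t l} ≤ maximalIdeal (B t l) ^ 2 := by
      rwa [Ideal.span_singleton_le_iff_mem]
    exact h5 hx
  rw [Ideal.span_singleton_eq_bot] at h4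
  have h6 := root_mem_nonZeroDivisors t l hl ht ht2
  rw [h4] at h6
  exact zero_notMem_nonZeroDivisors h6

theorem ringKrullDim_eq : ringKrullDim (B t l) = ringKrullDim A := by
  have h0 := isLocalRing t l hl ht
  have hr := isRegularLocalRing t l hl ht ht2
  rw [← (Groth.Agent.CalgA.RegBasic.quotient_of_notMem_sq t ht ht2).2,
    ← (Groth.Agent.CalgA.RegBasic.quotient_of_notMem_sq (s t l) (root_mem_maximalIdeal t l hl ht)
      (root_notMem_sq t l hl ht ht2)).2,
    ringKrullDim_eq_of_ringEquiv (quotEquiv t l hl)]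

/-- summary -/
theorem main (hA : EtCoh.IsStrictlyHenselianLocalRing A) :
    ∃ _ : IsRegularLocalRing (B t l), EtCoh.IsStrictlyHenselianLocalRing (B t l) ∧
      ringKrullDim (B t l) = ringKrullDim A ∧ s t l ∈ maximalIdeal (B t l) ∧
      s t l ∉ maximalIdeal (B t l) ^ 2 ∧ s t l ^ l = algebraMap A (B t l) t ∧
      Module.Finite A (B t l) ∧ Module.Free A (B t l) ∧ Function.Injective (algebraMap A (B t l)) ∧
      IsLocalHom (algebraMap A (B t l)) ∧
      (∀ P : PrimeSpectrum (B t l), P.comap (algebraMap A (B t l)) = closedPoint A ↔ P = closedPoint (B t l)) ∧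
      Nonempty ((B t l ⧸ Ideal.span {s t l}) ≃ₐ[A] A ⧸ Ideal.span {t}) := by
  have h0 := isLocalRing t l hl ht
  have hr := isRegularLocalRing t l hl ht ht2
  refine ⟨hr, isStrictlyHenselian t l hl ht hA, ringKrullDim_eq t l hl ht ht2,
    root_mem_maximalIdeal t l hl ht, root_notMem_sq t l hl ht ht2, root_pow t l, moduleFinite t l hl,
    moduleFree t l hl, injective t l hl ht, isLocalHom t l hl, fun P => ⟨eq_closedPoint t l hl P, ?_⟩,
    ⟨quotAlgEquiv t l hl⟩⟩
  rintro rfl
  exact comap_closedPoint t l hl

end Regular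

end K734.Root
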